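import Groth.Agent.S5426
import Groth.Agent.S7951
import Groth.Agent.S11926
import Groth.Agent.Lib.MuCrit20.Main
import Groth.Agent.Lib.JordanPts23.Basic
import Groth.Agent.Lib.FinGrp20.Basic
import Groth.Prelude.Def_Lie2
import Groth.Prelude.Def_GLin4
import Mathlib.LinearAlgebra.Eigenspace.Semisimple
import Mathlib.LinearAlgebra.Matrix.Charpoly.Coeff
import Mathlib.LinearAlgebra.TensorProduct.RightExactness
import Mathlib.RingTheory.Bialgebra.TensorProduct
import Mathlib.FieldTheory.IntermediateField.Adjoin.Basic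
import Mathlib.LinearAlgebra.Matrix.ToLin
import Mathlib.RingTheory.Ideal.Quotient.Nilpotent

/-!
# Unipotence criteria: algebra
-/

set_option autoImplicit false
set_option linter.style.haveILetI false
set_option linter.unusedSectionVars false
set_option maxHeartbeats 600000
universe u

open TensorProduct WithConv HopfRep
open scoped Groth.Agent.CoalgH23

noncomputable section

namespace Groth.Agent.UnipPts20

section Connected

variable {k : Type u} [Field k]

/-- Idempotents of a finite extension of a connected algebra with a rational point. -/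
theorem idem_eq_zero_of_counit {A : Type u} [CommRing A] [Algebra k A] (ε : A →ₐ[k] k)
    (hconn : ∀ e : A, IsIdempotentElem e → e = 0 ∨ e = 1)
    {L : Type u} [Field L] [Algebra k L] [FiniteDimensional k L]
    {z : A ⊗[k] L} (hz : IsIdempotentElem z)
    (h0 : Algebra.TensorProduct.lid k L (Algebra.TensorProduct.map ε (AlgHom.id k L) z) = 0) : z = 0 := by
  classical
  let εL : A ⊗[k] L →ₐ[k] L :=
    (Algebra.TensorProduct.lid k L).toAlgHom.comp (Algebra.TensorProduct.map ε (AlgHom.id k L))
  let b := Module.finBasis k L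
  let b' := Algebra.TensorProduct.basis A b
  have hrepr : ∀ (y : A ⊗[k] L) i, ε (b'.repr y i) = b.repr (εL y) i := by
    intro y i
    induction y with
    | zero => simp
    | add p q hp hq => simp only [map_add, Finsupp.add_apply, hp, hq]
    | tmul a l => simp [b', εL, mul_comm]
  let w := Algebra.norm A (1 - z)
  have hw : IsIdempotentElem w := hz.one_sub.map (Algebra.norm A)
  have hεw : ε w = 1 := by
    show ε (Algebra.norm A (1 - z)) = 1
    rw [Algebra.norm_eq_matrix_det b', AlgHom.map_det]
    have : ε.mapMatrix (Algebra.leftMulMatrix b' (1 - z)) = 1 := by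
      ext i j
      rw [AlgHom.mapMatrix_apply, Matrix.map_apply, Algebra.leftMulMatrix_eq_repr_mul, hrepr, map_mul, map_sub,
        map_one, show εL z = 0 from h0, sub_zero, one_mul]
      simp [b', εL, Matrix.one_apply, Finsupp.single_apply, eq_comm]
    rw [this, Matrix.det_one]
  have hw1 : w = 1 := (hconn w hw).resolve_left fun h => by
    rw [h, map_zero] at hεw; exact zero_ne_one hεw
  have hu : IsUnit (1 - z) := by
    have hdet : IsUnit (LinearMap.det (Algebra.lmul A (A ⊗[k] L) (1 - z))) := by
      show IsUnit (Algebra.norm A (1 - z))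
      rw [show Algebra.norm A (1 - z) = 1 from hw1]; exact isUnit_one
    haveI := Module.Finite.of_basis b'
    haveI := Module.Free.of_basis b'
    let E := LinearMap.equivOfIsUnitDet hdet
    have hE : ∀ x, E x = (1 - z) * x := fun x => LinearMap.equivOfIsUnitDet_apply hdet x
    exact IsUnit.of_mul_eq_one (E.symm 1) ((hE _).symm.trans (E.apply_symm_apply 1))
  have := hu.mul_left_cancel (hz.one_sub.eq.trans (mul_one (1 - z)).symm)
  linear_combination -this

/-- A connected algebra with a rational point stays connected over an algebraic extension. -/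
theorem idem_baseChange {A : Type u} [CommRing A] [Algebra k A] (ε : A →ₐ[k] k)
    (hconn : ∀ e : A, IsIdempotentElem e → e = 0 ∨ e = 1) (K : Type u) [Field K] [Algebra k K]
    [Algebra.IsAlgebraic k K] (e : K ⊗[k] A) (he : IsIdempotentElem e) : e = 0 ∨ e = 1 := by
  have hrange : ∀ z : A ⊗[k] K, ∃ L : IntermediateField k K, FiniteDimensional k L ∧
      z ∈ (Algebra.TensorProduct.map (AlgHom.id k A) L.val).range := by
    intro z
    induction z using TensorProduct.induction_on with
    | zero => exact ⟨⊥, inferInstance, zero_mem _⟩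
    | tmul a c =>
      exact ⟨IntermediateField.adjoin k {c}, IntermediateField.adjoin.finiteDimensional (Algebra.IsIntegral.isIntegral c),
        a ⊗ₜ ⟨c, IntermediateField.mem_adjoin_simple_self k c⟩, rfl⟩
    | add x y hx hy =>
      obtain ⟨L, hL, hx⟩ := hx
      obtain ⟨M, hM, hy⟩ := hy
      have hle : ∀ {L N : IntermediateField k K}, L ≤ N →
          (Algebra.TensorProduct.map (AlgHom.id k A) L.val).range ≤
            (Algebra.TensorProduct.map (AlgHom.id k A) N.val).range := by
        rintro L N h _ ⟨w, rfl⟩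
        refine ⟨Algebra.TensorProduct.map (AlgHom.id k A) (IntermediateField.inclusion h) w, ?_⟩
        induction w using TensorProduct.induction_on with
        | zero => simp
        | tmul a b => rfl
        | add u v hu hv => rw [map_add, map_add, map_add, hu, hv]
      exact ⟨L ⊔ M, inferInstance, add_mem (hle le_sup_left hx) (hle le_sup_right hy)⟩
  let σ := Algebra.TensorProduct.comm k K A
  obtain ⟨L, hL, z, hz⟩ := hrange (σ e)
  let f := Algebra.TensorProduct.map (AlgHom.id k A) L.val
  have hf : Function.Injective f :=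
    Module.Flat.lTensor_preserves_injective_linearMap (M := A) L.val.toLinearMap L.val.injective
  have hz' : IsIdempotentElem z := hf (by
    have h := he.map σ
    rw [← hz] at h
    show f (z * z) = f z
    rw [map_mul]; exact h)
  have hzero : ∀ y : A ⊗[k] L, IsIdempotentElem y →
      Algebra.TensorProduct.lid k L (Algebra.TensorProduct.map ε (AlgHom.id k L) y) = 0 → y = 0 :=
    fun y hy h => idem_eq_zero_of_counit ε hconn hy h
  rcases IsIdempotentElem.iff_eq_zero_or_one.1 ((hz'.map (Algebra.TensorProduct.map ε (AlgHom.id k L))).map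
      (Algebra.TensorProduct.lid k L)) with h | h
  · left
    refine σ.injective ?_
    rw [← hz, show z = 0 from hzero z hz' h, map_zero, map_zero]
  · right
    refine σ.injective ?_
    rw [← hz, ← sub_eq_zero.1 (hzero (1 - z) hz'.one_sub (by rw [map_sub, map_sub, map_one, map_one, h, sub_self])),
      map_one, map_one]

end Connected

section Lift

variable {k : Type u} [CommRing k] {A B C : Type u} [CommRing A] [Bialgebra k A] [CommRing B] [Bialgebra k B]
  [CommRing C] [Bialgebra k C]

/-- Bialgebra maps descend along surjective bialgebra maps. -/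
theorem exists_descend (π : A →ₐc[k] B) (hπ : Function.Surjective π) (φ : A →ₐc[k] C)
    (h : ∀ a, π a = 0 → φ a = 0) : ∃ ψ : B →ₐc[k] C, ∀ a, ψ (π a) = φ a := by
  let P : A →ₐ[k] B := π
  let Q : A →ₐ[k] C := φ
  let f : B →+* C := RingHom.liftOfSurjective P.toRingHom hπ ⟨Q.toRingHom, fun a ha => h a (RingHom.mem_ker.1 ha)⟩
  have hf : ∀ a, f (π a) = φ a := fun a =>
    RingHom.liftOfRightInverse_comp_apply _ _ (Function.rightInverse_surjInv hπ) ⟨Q.toRingHom, fun a ha => h a (RingHom.mem_ker.1 ha)⟩ a
  let F : B →ₐ[k] C := { f with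
    commutes' := fun c => by
      show f (algebraMap k B c) = algebraMap k C c
      rw [show algebraMap k B c = π (algebraMap k A c) from (P.commutes c).symm, hf]
      exact Q.commutes c }
  have hF : ∀ a, F (π a) = φ a := hf
  refine ⟨BialgHom.ofAlgHom F (AlgHom.ext fun b => ?_) (AlgHom.ext fun b => ?_), hF⟩
  · obtain ⟨a, rfl⟩ := hπ b
    show CoalgebraStruct.counit (R := k) (F (π a)) = CoalgebraStruct.counit (R := k) (π a)
    rw [hF, CoalgHomClass.counit_comp_apply, CoalgHomClass.counit_comp_apply]
  · obtain ⟨a, rfl⟩ := hπ b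
    show Algebra.TensorProduct.map F F (CoalgebraStruct.comul (R := k) (π a)) = CoalgebraStruct.comul (R := k) (F (π a))
    rw [hF, ← CoalgHomClass.map_comp_comul_apply φ, ← CoalgHomClass.map_comp_comul_apply π]
    induction CoalgebraStruct.comul (R := k) a using TensorProduct.induction_on with
    | zero => simp
    | tmul x y => simp [hF]
    | add x y hx hy => simp only [map_add, hx, hy]

end Lift

section HeightOne

variable {k : Type u} [Field k] (p : ℕ) [Fact p.Prime] [CharP k p] {A : Type u} [CommRing A] [HopfAlgebra k A]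

/-- `p`-th powers in the group algebra of `ℤ/p`. -/
theorem pow_eq_counit (y : MonoidAlgebra k (Multiplicative (ZMod p))) :
    y ^ p = algebraMap k _ (CoalgebraStruct.counit (R := k) y ^ p) := by
  haveI : CharP (MonoidAlgebra k (Multiplicative (ZMod p))) p :=
    charP_of_injective_algebraMap (algebraMap k _).injective p
  have hp : p.Prime := Fact.out
  induction y using MonoidAlgebra.induction_linear with
  | zero => simp [hp.ne_zero]
  | add a b ha hb => rw [map_add, add_pow_char, add_pow_char, map_add, ha, hb]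
  | single m c =>
    have hm : m ^ p = 1 := by
      apply Multiplicative.toAdd.injective
      simp
    simp [MonoidAlgebra.single_pow, hm, MonoidAlgebra.counit_single]

/-- The Lie algebra in the convolution algebra. -/
theorem lieNil_of_lie (h : ∀ D : LieHopf.Lie k A, ∃ n : ℕ, 0 < n ∧
    LieHopf.convPow (D.toLinearMap.restrictScalars k ∘ₗ LinearMap.id) (p ^ n) = 0) : MuCrit20.LieNil k A := by
  intro d hd
  let D : LieHopf.Lie k A := Derivation.mk' (show A →ₗ[k] LieHopf.K k A from d.ofConv) fun a b => by
    show d.ofConv (a * b) = Bialgebra.counitAlgHom k A a * d.ofConv b + Bialgebra.counitAlgHom k A b * d.ofConv a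
    rw [MuCrit20.mem_der_iff.1 hd]
    show d.ofConv a * Bialgebra.counitAlgHom k A b + Bialgebra.counitAlgHom k A a * d.ofConv b = _
    ring
  obtain ⟨n, -, hn⟩ := h D
  have hpow : ∀ m : ℕ, LieHopf.convPow d.ofConv m = (d ^ m).ofConv := by
    intro m
    induction m with
    | zero =>
      rw [pow_zero]
      refine LinearMap.ext fun a => ?_
      show CoalgebraStruct.counit (R := k) a = _
      simp [LinearMap.convOne_apply]
    | succ m ih =>
      rw [pow_succ]
      show LieHopf.conv (LieHopf.convPow d.ofConv m) d.ofConv = _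
      rw [ih]
      rfl
  refine ⟨p ^ n, WithConv.ofConv_injective ?_⟩
  rw [← hpow]
  exact hn

/-- The group has a unipotent quotient of height one with the kernel generated by `p`-th powers. -/
theorem exists_heightOne [Algebra.FiniteType k A] (hL : MuCrit20.LieNil k A) :
    ∃ (J : Ideal A) (_ : J.IsHopfIdeal k), IsUnipotent k (A ⧸ J) ∧ Algebra.FiniteType k (A ⧸ J) ∧
      ∀ (E : Type u) [CommRing E] [Algebra k E] (F : A →ₐ[k] E),
        (∀ a, F (a ^ p) = algebraMap k E (Bialgebra.counitAlgHom k A (a ^ p))) → ∀ b ∈ J, F b = 0 := by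
  haveI : Nontrivial A := Bialgebra.nontrivial k
  haveI : CharP A p := charP_of_injective_algebraMap (algebraMap k A).injective p
  haveI : Nontrivial (A ⊗[k] A) := (Bialgebra.counitAlgHom k (A ⊗[k] A)).domain_nontrivial
  haveI : CharP (A ⊗[k] A) p := charP_of_injective_algebraMap (algebraMap k (A ⊗[k] A)).injective p
  let S : Set A := Set.range fun a : A => a ^ p
  let B : Subalgebra k A := Algebra.adjoin k S
  let V : B ⊗[k] B →ₐ[k] A ⊗[k] A := Algebra.TensorProduct.map B.val B.val
  have hBsub : ∀ (f : A →ₐ[k] A ⊗[k] A), (∀ a, f (a ^ p) ∈ V.range) → B ≤ V.range.comap f :=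
    fun f hf => Algebra.adjoin_le (by rintro _ ⟨a, rfl⟩; exact hf a)
  have hB : ∀ b ∈ B, CoalgebraStruct.comul (R := k) b ∈
      LinearMap.range (TensorProduct.map B.val.toLinearMap B.val.toLinearMap) := by
    intro b hb
    refine hBsub (Bialgebra.comulAlgHom k A) (fun a => ?_) hb
    rw [map_pow]
    induction Bialgebra.comulAlgHom k A a using TensorProduct.induction_on with
    | zero => rw [zero_pow (Fact.out : p.Prime).ne_zero]; exact zero_mem _
    | add u v hu hv => rw [add_pow_char]; exact add_mem hu hv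
    | tmul a c =>
      exact ⟨⟨a ^ p, Algebra.subset_adjoin ⟨a, rfl⟩⟩ ⊗ₜ[k] ⟨c ^ p, Algebra.subset_adjoin ⟨c, rfl⟩⟩, by
        simp [V, Algebra.TensorProduct.tmul_pow]⟩
  have hS : ∀ b ∈ B, HopfAlgebra.antipode k b ∈ B := fun b hb =>
    (Algebra.adjoin_le (S := B.comap (HopfAlgebra.antipodeAlgHom k A)) (by
      rintro _ ⟨a, rfl⟩
      show HopfAlgebra.antipodeAlgHom k A (a ^ p) ∈ B
      rw [map_pow]
      exact Algebra.subset_adjoin ⟨_, rfl⟩)) hb
  let J : Ideal A := Ideal.span {a : A | a ∈ B ∧ CoalgebraStruct.counit (R := k) a = 0}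
  haveI : J.IsHopfIdeal k := FinGrp.isHopfIdeal_span_aug B hB hS
  let π : A →ₐc[k] A ⧸ J := Bialgebra.Quotient.mkBialgHom (R := k) J
  have hπ : Function.Surjective π := Ideal.Quotient.mk_surjective
  haveI : Algebra.FiniteType k (A ⧸ J) :=
    Algebra.FiniteType.of_surjective (Ideal.Quotient.mkₐ k J) (Ideal.Quotient.mkₐ_surjective k J)
  have hU : IsUnipotent k (A ⧸ J) := by
    refine MuCrit20.isUnipotent_of_heightOne p (fun a ha => ?_) (hL.of_surjective π hπ)
    obtain ⟨x, rfl⟩ := Ideal.Quotient.mk_surjective a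
    have ha' : CoalgebraStruct.counit (R := k) x = 0 := ha
    rw [← map_pow, Ideal.Quotient.eq_zero_iff_mem]
    refine Ideal.subset_span ⟨Algebra.subset_adjoin ⟨x, rfl⟩, ?_⟩
    rw [Bialgebra.counit_pow, ha', zero_pow (Fact.out : p.Prime).ne_zero]
  refine ⟨J, inferInstance, hU, inferInstance, fun E _ _ F hF b hb => ?_⟩
  refine (Ideal.span_le (I := RingHom.ker F)).2 ?_ hb
  rintro x ⟨hx, hx0⟩
  have hle : B ≤ AlgHom.equalizer F ((Algebra.ofId k E).comp (Bialgebra.counitAlgHom k A)) :=
    Algebra.adjoin_le (by rintro _ ⟨a, rfl⟩; exact hF a)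
  show F x = 0
  refine (hle hx).trans ?_
  show algebraMap k E (Bialgebra.counitAlgHom k A x) = 0
  rw [show Bialgebra.counitAlgHom k A x = 0 from hx0, map_zero]

/-- With nilpotent Lie algebra there is no subgroup `μ_p` over any extension field. -/
theorem no_mu_of_lieNil [Algebra.FiniteType k A] (hL : MuCrit20.LieNil k A) (K : Type u) [Field K] [IsAlgClosed K]
    [Algebra k K] :
    ¬ ∃ φ : K ⊗[k] A →ₐc[K] MonoidAlgebra K (Multiplicative (ZMod p)), Function.Surjective φ := by
  rintro ⟨φ, hφ⟩
  obtain ⟨J, hJ, hU, hft, hzero⟩ := exists_heightOne p hL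
  haveI := hJ
  haveI := hft
  haveI : CharP K p := charP_of_injective_algebraMap (algebraMap k K).injective p
  let π : A →ₐc[k] A ⧸ J := Bialgebra.Quotient.mkBialgHom (R := k) J
  have hπ : Function.Surjective π := Ideal.Quotient.mk_surjective
  let πK : K ⊗[k] A →ₐc[K] K ⊗[k] (A ⧸ J) := Bialgebra.TensorProduct.map (BialgHom.id K K) π
  have hπK : Function.Surjective πK := by
    intro y
    induction y using TensorProduct.induction_on with
    | zero => exact ⟨0, map_zero _⟩
    | tmul c b =>
      obtain ⟨a, rfl⟩ := hπ b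
      exact ⟨c ⊗ₜ[k] a, Bialgebra.TensorProduct.map_tmul _ _ _ _⟩
    | add u v hu hv =>
      obtain ⟨u, rfl⟩ := hu
      obtain ⟨v, rfl⟩ := hv
      exact ⟨u + v, map_add _ _ _⟩
  let F : A →ₐ[k] MonoidAlgebra K (Multiplicative (ZMod p)) :=
    ((φ : K ⊗[k] A →ₐ[K] MonoidAlgebra K (Multiplicative (ZMod p))).restrictScalars k).comp
      Algebra.TensorProduct.includeRight
  have hF : ∀ a, F (a ^ p) = algebraMap k _ (Bialgebra.counitAlgHom k A (a ^ p)) := by
    intro a
    have hc : CoalgebraStruct.counit (R := K) (F a) = algebraMap k K (Bialgebra.counitAlgHom k A a) := by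
      show CoalgebraStruct.counit (R := K) (φ ((1 : K) ⊗ₜ[k] a)) = _
      rw [CoalgHomClass.counit_comp_apply]
      simp [Algebra.smul_def]
    rw [map_pow, pow_eq_counit (k := K) p (F a), hc, map_pow, map_pow, map_pow,
      ← IsScalarTower.algebraMap_apply k K (MonoidAlgebra K (Multiplicative (ZMod p)))]
  have hker : ∀ z, πK z = 0 → φ z = 0 := by
    intro z hz
    have h1 : z ∈ RingHom.ker (Algebra.TensorProduct.map (AlgHom.id k K) (Ideal.Quotient.mkₐ k J)) := hz
    rw [Algebra.TensorProduct.lTensor_ker (Ideal.Quotient.mkₐ k J) (Ideal.Quotient.mkₐ_surjective k J),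
      show RingHom.ker (Ideal.Quotient.mkₐ k J) = J from Ideal.Quotient.mkₐ_ker k J] at h1
    refine (Ideal.map_le_iff_le_comap (K := RingHom.ker (φ : K ⊗[k] A →ₐ[K] MonoidAlgebra K (Multiplicative (ZMod p))))).2 ?_ h1
    exact fun b hb => hzero _ F hF b hb
  obtain ⟨ψ, hψ⟩ := exists_descend πK hπK φ hker
  exact (S5426.result K (K ⊗[k] (A ⧸ J))).1 ((S7951.result k K (A ⧸ J)).1 hU) p Fact.out
    ⟨ψ, fun y => let ⟨x, hx⟩ := hφ y; ⟨πK x, (hψ x).trans hx⟩⟩

end HeightOne

section Red

variable {K : Type u} [Field K] [IsAlgClosed K] (p : ℕ) [Fact p.Prime] [CharP K p]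

omit [IsAlgClosed K] in
theorem isReduced_zmodAlg {r : ℕ} (hr : r.Prime) (hne : r ≠ p) [IsAlgClosed K] :
    IsReduced (MonoidAlgebra K (Multiplicative (ZMod r))) := by
  haveI : NeZero r := ⟨hr.ne_zero⟩
  haveI : Invertible (Nat.card (Multiplicative (ZMod r)) : K) := invertibleOfNonzero (by
    rw [Nat.card_eq_fintype_card, Fintype.card_multiplicative, ZMod.card, Ne, CharP.cast_eq_zero_iff K p]
    exact fun h => hne ((Nat.prime_dvd_prime_iff_eq (Fact.out : p.Prime) hr).1 h).symm)
  haveI : NeZero (Nat.card (Multiplicative (ZMod r)) : K) := ⟨Invertible.ne_zero _⟩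
  exact inferInstance

/-- Unipotence of points passes from the reduced group to the group. -/
theorem ptsUnip_of_red (B : Type u) [CommRing B] [HopfAlgebra K B] [Algebra.FiniteType K B]
    {R : Type u} [CommRing R] [HopfAlgebra K R] [Algebra.FiniteType K R] [IsReduced R] (π : B →ₐc[K] R)
    (hπ : Function.Surjective π) (hker : ∀ b, π b = 0 → IsNilpotent b)
    (hno : ¬ ∃ φ : B →ₐc[K] MonoidAlgebra K (Multiplicative (ZMod p)), Function.Surjective φ)
    (hR : MuCrit20.PtsUnip K R) : MuCrit20.PtsUnip K B := by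
  by_contra hB
  obtain ⟨r, hr, φ, hφ⟩ := MuCrit20.exists_mu_of_not_ptsUnip K B hB
  by_cases hrp : r = p
  · subst hrp; exact hno ⟨φ, hφ⟩
  haveI := isReduced_zmodAlg (K := K) p hr hrp
  obtain ⟨ψ, hψ⟩ := exists_descend π hπ φ fun b hb =>
    (show IsNilpotent (φ b) from (hker b hb).map (φ : B →ₐ[K] MonoidAlgebra K (Multiplicative (ZMod r)))).eq_zero
  exact (S5426.result K R).1 (MuCrit20.isUnipotent_of_reduced R hR) r hr
    ⟨ψ, fun y => let ⟨x, hx⟩ := hφ y; ⟨π x, (hψ x).trans hx⟩⟩

end Red

section Points

variable {K : Type u} [Field K] {A : Type u} [CommRing A] [HopfAlgebra K A] {n : ℕ}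

/-- A point with unipotent matrix acts locally unipotently. -/
theorem ptsUnip_of_matrix (ρ : CoordGrp.GLn n K →ₐc[K] A) (hρ : Function.Surjective ρ)
    (h : ∀ g : A →ₐ[K] K,
      IsNilpotent ((Matrix.of fun i j => g (ρ (CoordGrp.GLn.X i j))) - (1 : Matrix (Fin n) (Fin n) K))) :
    MuCrit20.PtsUnip K A := by
  intro g
  let M : Matrix (Fin n) (Fin n) K := Matrix.of fun i j => g (ρ (CoordGrp.GLn.X i j))
  obtain ⟨m, hm⟩ := h g
  let W := MuCrit20.weight g 1
  have hW : ∀ a : A, a ∈ W ↔ ∃ N : ℕ, ((MuCrit20.T' K A A g - 1) ^ N) a = 0 := fun a => by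
    rw [show W = Module.End.maxGenEigenspace (Comod.act K A A g) ((1 : Kˣ) : K) from rfl,
      Module.End.mem_maxGenEigenspace]
    simp
  have hcom : ∀ b : CoordGrp.GLn n K, Comod.act K A A g (ρ b) = TensorProduct.rid K A
      (TensorProduct.map (ρ : CoordGrp.GLn n K →ₐ[K] A).toLinearMap
        (g.comp (ρ : CoordGrp.GLn n K →ₐ[K] A)).toLinearMap (CoalgebraStruct.comul (R := K) b)) := fun b => by
    show TensorProduct.rid K A (g.toLinearMap.lTensor A (CoalgebraStruct.comul (R := K) (ρ b))) = _
    rw [← CoalgHomClass.map_comp_comul_apply ρ, ← LinearMap.comp_apply, LinearMap.lTensor,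
      ← TensorProduct.map_comp]
    rfl
  let x : Matrix (Fin n) (Fin n) A := Matrix.of fun i j => ρ (CoordGrp.GLn.X i j)
  have hT : ∀ i j, Comod.act K A A g (x i j) = ∑ l, M l j • x i l := fun i j => by
    rw [show x i j = ρ (CoordGrp.GLn.X i j) from rfl, hcom, CoordGrp.GLn.comul_X, map_sum, map_sum]
    simp [x, M]
  have hTN : ∀ (N : ℕ) i j, ((MuCrit20.T' K A A g - 1) ^ N) (x i j) = ∑ l, ((M - 1) ^ N) l j • x i l := by
    intro N
    induction N with
    | zero => intro i j; simp [Matrix.one_apply, Finset.sum_ite_eq']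
    | succ N ih =>
      intro i j
      rw [pow_succ, Module.End.mul_apply]
      have h1 : (MuCrit20.T' K A A g - 1) (x i j) = ∑ l, (M - 1) l j • x i l := by
        rw [LinearMap.sub_apply, Module.End.one_apply]
        show Comod.act K A A g (x i j) - _ = _
        rw [hT]
        simp [sub_smul, Finset.sum_sub_distrib, Matrix.one_apply, Finset.sum_ite_eq']
      rw [h1, map_sum]
      simp only [map_smul, ih, Finset.smul_sum, smul_smul, pow_succ, Matrix.mul_apply, Finset.sum_smul]
      rw [Finset.sum_comm]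
      exact Finset.sum_congr rfl fun _ _ => Finset.sum_congr rfl fun _ _ => by rw [mul_comm]
  have hXW : ∀ i j, x i j ∈ W := fun i j => (hW _).2 ⟨m, by
    rw [hTN, show (M - 1) ^ m = 0 from hm]; simp⟩
  have hdet : g (ρ CoordGrp.GLn.Dinv) = 1 := by
    have h1 := congrArg (fun b => g (ρ b)) (CoordGrp.GLn.det_mul_Dinv (n := n) (k := K))
    simp only [map_mul, map_one] at h1
    have h2 : g (ρ CoordGrp.GLn.det) = M.det := by
      rw [CoordGrp.GLn.det_eq]
      exact (g.comp (ρ : CoordGrp.GLn n K →ₐ[K] A)).map_det _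
    have h3 : M.det = 1 := by
      have hN : IsNilpotent (M - 1) := ⟨m, hm⟩
      have h4 := Matrix.isNilpotent_charpoly_sub_pow_of_isNilpotent hN
      have h5 := h4.eq_zero
      rw [sub_eq_zero] at h5
      have h6 := congrArg (Polynomial.eval (-1 : K)) h5
      rw [Matrix.eval_charpoly, Polynomial.eval_pow, Polynomial.eval_X] at h6
      rw [show Matrix.scalar (Fin n) (-1 : K) - (M - 1) = -M by rw [map_neg, map_one]; abel, Matrix.det_neg] at h6
      have hne : (-1 : K) ^ Fintype.card (Fin n) ≠ 0 := pow_ne_zero _ (neg_ne_zero.2 one_ne_zero)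
      exact mul_left_cancel₀ hne (h6.trans (mul_one _).symm)
    rw [h2, h3, one_mul] at h1
    exact h1
  have hDW : ρ CoordGrp.GLn.Dinv ∈ W := (hW _).2 ⟨1, by
    rw [pow_one, LinearMap.sub_apply, Module.End.one_apply]
    show Comod.act K A A g (ρ CoordGrp.GLn.Dinv) - _ = _
    rw [hcom, CoordGrp.GLn.comul_Dinv]
    simp [hdet]⟩
  let S : Subalgebra K A :=
    { carrier := W
      one_mem' := MuCrit20.one_mem_weight g
      mul_mem' := fun {a b} ha hb => by
        have := MuCrit20.mul_mem_weight g ha hb
        rwa [one_mul] at this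
      add_mem' := fun {a b} ha hb => W.add_mem ha hb
      zero_mem' := W.zero_mem
      algebraMap_mem' := fun c => by
        rw [Algebra.algebraMap_eq_smul_one]
        exact W.smul_mem c (MuCrit20.one_mem_weight g) }
  intro a
  obtain ⟨b, rfl⟩ := hρ a
  refine (hW _).1 (?_ : ρ b ∈ S)
  obtain ⟨c, rfl⟩ := Ideal.Quotient.mk_surjective b
  let q : MvPolynomial (CoordGrp.GLPoly.Idx n) K := c
  show ρ (Ideal.Quotient.mk _ (q : CoordGrp.GLb n K)) ∈ S
  let F : MvPolynomial (CoordGrp.GLPoly.Idx n) K →ₐ[K] A :=
    (ρ : CoordGrp.GLn n K →ₐ[K] A).comp (Ideal.Quotient.mkₐ K (CoordGrp.GLb.relIdeal n K))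
  show F q ∈ S
  induction q using MvPolynomial.induction_on with
  | C c => rw [← MvPolynomial.algebraMap_eq, AlgHom.commutes]; exact S.algebraMap_mem _
  | add u v hu hv => rw [map_add]; exact S.add_mem hu hv
  | mul_X u s hu =>
    rw [map_mul]
    refine S.mul_mem hu ?_
    rcases s with ⟨i, j⟩ | ⟨⟩
    · exact hXW i j
    · exact hDW

variable [IsAlgClosed K] {U : Type u} [CommRing U] [HopfAlgebra K U]

/-- A semisimple point of a group with unipotent points is trivial. -/
theorem eq_counit_of_semisimple (ψ : A →ₐc[K] U) (hψ : Function.Surjective ψ) (hU : MuCrit20.PtsUnip K U)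
    (y : U →ₐ[K] K)
    (hss : ∀ (V : Type u) [AddCommGroup V] [Module K V] [Comod K A V], Module.Finite K V →
      Module.End.IsSemisimple (Comod.act K A V (y.comp (ψ : A →ₐ[K] U)))) :
    y = Bialgebra.counitAlgHom K U := by
  set g := y.comp (ψ : A →ₐ[K] U)
  have hcomm : ∀ a, Comod.act K U U y (ψ a) = ψ (Comod.act K A A g a) := fun a => by
    show TensorProduct.rid K U (y.toLinearMap.lTensor U (CoalgebraStruct.comul (R := K) (ψ a))) =
      ψ (TensorProduct.rid K A (g.toLinearMap.lTensor A (CoalgebraStruct.comul (R := K) a)))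
    rw [← CoalgHomClass.map_comp_comul_apply ψ]
    induction CoalgebraStruct.comul (R := K) a using TensorProduct.induction_on with
    | zero => simp
    | tmul b c => simp [g]
    | add b c hb hc => simp only [map_add, hb, hc]
  have hfix : ∀ a : A, Comod.act K U U y (ψ a) = ψ a := by
    intro a
    obtain ⟨V, hV, hVf, ha⟩ := Comodule.exists_finite_subcomod (k := K) (A := A) (V := A) a
    letI := Comodule.subComod V hV
    have hVact : ∀ v : V, (Comod.act K A V g v : A) = Comod.act K A A g (v : A) := fun v => by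
      show V.subtype (TensorProduct.rid K V (g.toLinearMap.lTensor V (Comodule.coactRestrict V hV v))) =
        TensorProduct.rid K A (g.toLinearMap.lTensor A (Comod.coact (k := K) (A := A) (v : A)))
      rw [← Comodule.rTensor_coactRestrict V hV v]
      induction Comodule.coactRestrict V hV v using TensorProduct.induction_on with
      | zero => simp
      | tmul b c => simp
      | add b c hb hc => simp only [map_add, hb, hc]
    set T := Comod.act K A V g
    haveI : Module.Finite K V := hVf
    have htop := Module.End.IsSemisimple.iSup_eigenspace_eq_top (hss V inferInstance)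
    have hmem : (⟨a, ha⟩ : V) ∈ ⨆ μ : K, Module.End.eigenspace T μ := by rw [htop]; trivial
    refine Submodule.iSup_induction (motive := fun v : V => Comod.act K U U y (ψ (v : A)) = ψ (v : A)) _ hmem
      (fun μ v hv => ?_) (by simp) (fun v w hv hw => by simp only [Submodule.coe_add, map_add, hv, hw])
    rw [Module.End.mem_eigenspace_iff] at hv
    have h1 : Comod.act K U U y (ψ (v : A)) = μ • ψ (v : A) := by
      rw [hcomm, ← hVact, hv, Submodule.coe_smul, map_smul]
    obtain ⟨N, hN⟩ := hU y (ψ (v : A))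
    have h2 : ∀ N : ℕ, ((MuCrit20.T' K U U y - 1) ^ N) (ψ (v : A)) = (μ - 1) ^ N • ψ (v : A) := by
      intro N
      induction N with
      | zero => simp
      | succ N ih =>
        rw [pow_succ', Module.End.mul_apply, ih, map_smul, LinearMap.sub_apply, Module.End.one_apply]
        show (μ - 1) ^ N • (Comod.act K U U y (ψ (v : A)) - ψ (v : A)) = _
        rw [h1, pow_succ, mul_smul, sub_smul, one_smul]
    rw [h2] at hN
    rcases smul_eq_zero.1 hN with h | h
    · rw [h1, sub_eq_zero.1 (eq_zero_of_pow_eq_zero h), one_smul]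
    · rw [h, map_zero]
  refine AlgHom.ext fun u => ?_
  obtain ⟨a, rfl⟩ := hψ u
  have := congrArg (CoalgebraStruct.counit (R := K)) (hfix a)
  rw [JordanPts23.counit_act] at this
  exact this

end Points

end Groth.Agent.UnipPts20
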