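import Groth.Agent.Lib.UnipPts20.Alg
import Groth.Agent.Lib.TorPts21.UnipBorel
import Groth.Agent.Lib.TorPts21.Split
import Groth.Agent.Lib.MTRigid29.SubgrpFlatScheme
import Groth.Agent.Lib.GrpSmooth19.Basic
import Groth.Agent.Lib.RatGrp14.Decomp

/-!
# Unipotence of points of connected groups without subgroups `μ_p`
-/

set_option autoImplicit false
set_option linter.style.haveILetI false
set_option backward.isDefEq.respectTransparency.types false
set_option linter.unusedSectionVars false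
set_option maxHeartbeats 800000
universe u

open CategoryTheory Limits MonoidalCategory CartesianMonoidalCategory MonObj AlgebraicGeometry
open scoped Groth.Agent.CoalgH23 TensorProduct
open Groth.Agent.DiagGL

noncomputable section

namespace Groth.Agent.UnipPts20

variable {K : Type u} [Field K] [IsAlgClosed K]

instance isAffine_sp (A : Type u) [CommRing A] [Algebra K A] : IsAffine (CoactBr.sp K A).left :=
  inferInstanceAs (IsAffine (Spec (CommRingCat.of A)))

omit [IsAlgClosed K] in
theorem locallyOfFiniteType_sp (A : Type u) [CommRing A] [Algebra K A] [Algebra.FiniteType K A] :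
    LocallyOfFiniteType (CoactBr.sp K A).hom := by
  show LocallyOfFiniteType (Spec.map (CommRingCat.ofHom (algebraMap K A)))
  rw [HasRingHomProperty.Spec_iff (P := @LocallyOfFiniteType)]
  exact RingHom.finiteType_algebraMap.2 inferInstance

omit [IsAlgClosed K] in
theorem surjective_of_closedImmersion_pt {A B : Type u} [CommRing A] [Algebra K A] [CommRing B] [Algebra K B]
    (φ : A →ₐ[K] B) (h : IsClosedImmersion (CoactBr.pt φ).left) : Function.Surjective φ := by
  haveI h' : IsClosedImmersion (Spec.map (CommRingCat.ofHom φ.toRingHom)) := h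
  intro z
  obtain ⟨w, hw⟩ := (IsClosedImmersion.isAffine_surjective_of_isAffine
    (f := Spec.map (CommRingCat.ofHom φ.toRingHom))).2 ((Scheme.ΓSpecIso (CommRingCat.of B)).inv z)
  refine ⟨(Scheme.ΓSpecIso (CommRingCat.of A)).hom w, ?_⟩
  refine (ConcreteCategory.congr_hom (Scheme.ΓSpecIso_naturality (CommRingCat.ofHom φ.toRingHom)) w).symm.trans ?_
  change (Scheme.ΓSpecIso (CommRingCat.of B)).hom
    ((Spec.map (CommRingCat.ofHom φ.toRingHom)).appTop w) = z
  rw [hw]
  exact ConcreteCategory.congr_hom (Scheme.ΓSpecIso (CommRingCat.of B)).inv_hom_id z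

/-- A smooth connected group without subtori has unipotent points. -/
theorem ptsUnip_of_hasNoSubtorus (A : Type u) [CommRing A] [HopfAlgebra K A]
    (U : Over (Spec (CommRingCat.of K))) [GrpObj U] [IsAffine U.left] [Smooth U.hom] [ConnectedSpace U.left]
    (h : Red.HasNoSubtorus K U) (e : CoactBr.sp K A ⟶ U) [IsMonHom e] [IsIso e] : MuCrit20.PtsUnip K A := by
  haveI : LocallyOfFiniteType U.hom := inferInstance
  haveI : IsIso e.left := inferInstanceAs (IsIso ((Over.forget _).map e))
  obtain ⟨n, r, hr, hrc, hu⟩ := TorPts21.exists_upper_embedding (𝟙 U) (TorPts21.isSolvableGrp_of_hasNoSubtorus U h)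
  haveI := hr
  haveI := hrc
  have hlay := TorPts21.range_le_lay_of_hasNoSubtorus r (fun m hm => by
    obtain ⟨x, rfl⟩ := hm
    refine hu ⟨x, ?_⟩
    rw [TorPts21.mtx_comp, Category.comp_id]) h
  obtain ⟨ρ, hρ⟩ := MTRigid29.exists_bialgHom_of_monHom (e ≫ r)
  have hsurj : Function.Surjective ρ := by
    refine surjective_of_closedImmersion_pt (K := K) (ρ : CoordGrp.GLn n K →ₐ[K] A) ?_
    rw [← hρ, Over.comp_left]
    infer_instance
  refine ptsUnip_of_matrix ρ hsurj fun g => ?_
  let y : VecGrp.pt K K ⟶ U := CoactBr.pt g ≫ e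
  have hy : ((TorPts21.mtxFn r y : GL (Fin n) K) : Matrix (Fin n) (Fin n) K) =
      Matrix.of fun i j => g (ρ (CoordGrp.GLn.X i j)) := by
    rw [TorPts21.coe_mtxFn]
    ext i j
    show InvRing21.ptHom K (DiagGL.ev ((CoactBr.pt g ≫ e) ≫ r) (CoordGrp.GLn.X i j)) = g (ρ (CoordGrp.GLn.X i j))
    rw [Category.assoc, hρ, ← CoactBr.pt_comp, DiagGL.ev_pt]
    exact Iso.inv_hom_id_apply (Scheme.ΓSpecIso (CommRingCat.of K)) _
  rw [← hy]
  exact (MatGrp21.isUnip_iff_isNilpotent _).1 (MatGrp21.isUnip_of_mem_lay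
    (hlay ⟨y, TorPts21.mtx_apply r y⟩))

/-- The coordinate model of a split torus. -/
theorem exists_grpIso_splitTorus {T : Over (Spec (CommRingCat.of K))} [GrpObj T] (hT : Red.IsTorus T) :
    ∃ (r : ℕ) (_ : Chars (Fin r → ℤ) T) (f : CoactBr.sp K (MonoidAlgebra K (Multiplicative (Fin r → ℤ))) ⟶ T)
      (_ : IsMonHom f), IsIso f := by
  obtain ⟨r, ⟨C⟩⟩ := TorPts21.exists_chars hT
  obtain ⟨i⟩ := MTRigid29.nonempty_grpIso_of_chars
    (TorPts21.charsOfBialg (R := K) (M := Fin r → ℤ)
      (BialgEquiv.refl K (MonoidAlgebra K (Multiplicative (Fin r → ℤ))))) C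
  exact ⟨r, C, i.hom.hom.hom, i.hom.hom.isMonHom_hom,
    inferInstanceAs (IsIso ((Grp.forget _).map i.hom))⟩

/-- A subgroup torus gives a subgroup `μ_p`. -/
theorem hasNoSubtorus_of_no_mu (p : ℕ) [NeZero p] (A : Type u) [CommRing A] [HopfAlgebra K A] [Algebra.FiniteType K A]
    (hno : ¬ ∃ φ : A →ₐc[K] MonoidAlgebra K (Multiplicative (ZMod p)), Function.Surjective φ) :
    Red.HasNoSubtorus K (CoactBr.sp K A) := by
  intro T _ j _ _ hT
  haveI := locallyOfFiniteType_sp (K := K) A
  obtain ⟨r, C, f, hf, hfi⟩ := exists_grpIso_splitTorus hT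
  haveI := hf
  haveI := hfi
  haveI : IsClosedImmersion j.left := TorPts21.isClosedImmersion_of_torus hT j
  haveI : IsIso f.left := inferInstanceAs (IsIso ((Over.forget _).map f))
  obtain ⟨φ, hφ⟩ := MTRigid29.exists_bialgHom_of_monHom (f ≫ j)
  have hsurj : Function.Surjective φ := by
    refine surjective_of_closedImmersion_pt (K := K)
      (φ : A →ₐ[K] MonoidAlgebra K (Multiplicative (Fin r → ℤ))) ?_
    rw [← hφ, Over.comp_left]
    infer_instance
  rcases Nat.eq_zero_or_pos r with rfl | hr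
  · refine ⟨η[T].left, ?_, Over.w η[T]⟩
    have h : 𝟙 T = toUnit T ≫ η[T] := C.inj fun a => by
      rw [show a = 1 from Subsingleton.elim _ _]
      exact (map_one (C.ch (𝟙 T))).trans (map_one (C.ch (toUnit T ≫ η[T]))).symm
    have h' := congrArg (fun q : T ⟶ T => q.left) h
    exact h'.symm
  exfalso
  let q : Multiplicative (Fin r → ℤ) →* Multiplicative (ZMod p) :=
    AddMonoidHom.toMultiplicative ((Int.castAddHom (ZMod p)).comp (Pi.evalAddMonoidHom (fun _ : Fin r => ℤ) ⟨0, hr⟩))
  have hq : Function.Surjective q := fun z => by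
    obtain ⟨m, hm⟩ := ZMod.intCast_surjective (Multiplicative.toAdd z)
    exact ⟨Multiplicative.ofAdd fun _ => m, congrArg Multiplicative.ofAdd hm⟩
  let ψ : MonoidAlgebra K (Multiplicative (Fin r → ℤ)) →ₐc[K] MonoidAlgebra K (Multiplicative (ZMod p)) :=
    MonoidAlgebra.mapDomainBialgHom K q
  have hψ : Function.Surjective ψ := by
    intro y
    induction y using MonoidAlgebra.induction_linear with
    | zero => exact ⟨0, map_zero _⟩
    | add a b ha hb =>
      obtain ⟨a, rfl⟩ := ha
      obtain ⟨b, rfl⟩ := hb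
      exact ⟨a + b, map_add _ a b⟩
    | single m c =>
      obtain ⟨l, rfl⟩ := hq m
      exact ⟨MonoidAlgebra.single l c, by simp [ψ]⟩
  exact hno ⟨ψ.comp φ, hψ.comp hsurj⟩

omit [IsAlgClosed K] in
theorem connectedSpace_sp (A : Type u) [CommRing A] [Algebra K A] [IsDomain A] :
    ConnectedSpace (CoactBr.sp K A).left :=
  inferInstanceAs (ConnectedSpace (PrimeSpectrum A))

/-- A connected group without subgroup `μ_p` has unipotent points. -/
theorem ptsUnip_of_no_mu (p : ℕ) [Fact p.Prime] [CharP K p] (B : Type u) [CommRing B] [HopfAlgebra K B]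
    [Algebra.FiniteType K B] (hconn : ∀ e : B, IsIdempotentElem e → e = 0 ∨ e = 1)
    (hno : ¬ ∃ φ : B →ₐc[K] MonoidAlgebra K (Multiplicative (ZMod p)), Function.Surjective φ) :
    MuCrit20.PtsUnip K B := by
  let N : Ideal B := nilradical B
  haveI : N.IsHopfIdeal K := S11926.result K B
  haveI hred : _root_.IsReduced (B ⧸ N) :=
    (Ideal.isRadical_iff_quotient_reduced _).1 (Ideal.radical_isRadical _)
  let π : B →ₐc[K] B ⧸ N := Bialgebra.Quotient.mkBialgHom (R := K) N
  have hπ : Function.Surjective π := Ideal.Quotient.mk_surjective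
  haveI : Algebra.FiniteType K (B ⧸ N) :=
    Algebra.FiniteType.of_surjective (Ideal.Quotient.mkₐ K N) (Ideal.Quotient.mkₐ_surjective K N)
  have hnil : ∀ b, π b = 0 → IsNilpotent b := fun b hb =>
    mem_nilradical.1 (Ideal.Quotient.eq_zero_iff_mem.1 hb)
  refine ptsUnip_of_red p B π hπ hnil hno ?_
  have hconn' : ∀ e : B ⧸ N, IsIdempotentElem e → e = 0 ∨ e = 1 := by
    intro e he
    obtain ⟨x, hx, hxe⟩ := exists_isIdempotentElem_eq_of_ker_isNilpotent (Ideal.Quotient.mk N)
      (fun x hx => mem_nilradical.1 (Ideal.Quotient.eq_zero_iff_mem.1 hx)) e (Ideal.Quotient.mk_surjective e) he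
    rcases hconn x hx with h | h
    · exact Or.inl (by rw [← hxe, h, map_zero])
    · exact Or.inr (by rw [← hxe, h, map_one])
  haveI : Algebra.Smooth K (B ⧸ N) := RatGrp14.smooth_of_isReduced (B ⧸ N)
  haveI : Nontrivial (B ⧸ N) := (Bialgebra.counitAlgHom K (B ⧸ N)).toRingHom.domain_nontrivial
  haveI : IsDomain (B ⧸ N) := UnipConst20.isDomain_of_connected (k := K) (B ⧸ N) hconn'
  haveI := connectedSpace_sp (K := K) (B ⧸ N)
  haveI := locallyOfFiniteType_sp (K := K) (B ⧸ N)
  haveI : IsReduced (CoactBr.sp K (B ⧸ N)).left := inferInstanceAs (IsReduced (Spec (CommRingCat.of (B ⧸ N))))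
  haveI : Smooth (CoactBr.sp K (B ⧸ N)).hom := GrpSmooth19.smooth_of_isReduced _
  haveI : NeZero p := ⟨(Fact.out : p.Prime).ne_zero⟩
  have hno' : ¬ ∃ φ : (B ⧸ N) →ₐc[K] MonoidAlgebra K (Multiplicative (ZMod p)), Function.Surjective φ :=
    fun ⟨φ, hφ⟩ => hno ⟨φ.comp π, hφ.comp hπ⟩
  exact ptsUnip_of_hasNoSubtorus (B ⧸ N) (CoactBr.sp K (B ⧸ N)) (hasNoSubtorus_of_no_mu p (B ⧸ N) hno') (𝟙 _)

end Groth.Agent.UnipPts20
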