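import Groth.Prelude.Def_HopfRep
import Mathlib.RingTheory.HopfAlgebra.Convolution
import Mathlib.RingTheory.FiniteType
import Mathlib.Algebra.Algebra.Shrink
import Mathlib.LinearAlgebra.Semisimple
import Mathlib.LinearAlgebra.FreeModule.Finite.Basic

/-!
# Moving a finitely generated Hopf algebra and its comodules between universes
-/

set_option autoImplicit false
set_option linter.style.haveILetI false
universe u v w

open TensorProduct HopfRep

noncomputable section

namespace Groth.Agent.UnipPts20

section Transport

variable {k : Type u} [Field k] {A : Type v} [CommRing A] [HopfAlgebra k A] {A' : Type w} [CommRing A']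
  [Algebra k A'] (e : A' ≃ₐ[k] A)

/-- Transported comultiplication. -/
def comulT : A' →ₐ[k] A' ⊗[k] A' :=
  (Algebra.TensorProduct.map e.symm.toAlgHom e.symm.toAlgHom).comp ((Bialgebra.comulAlgHom k A).comp e.toAlgHom)

theorem comulT_apply (a : A') : comulT e a =
    Algebra.TensorProduct.map e.symm.toAlgHom e.symm.toAlgHom (CoalgebraStruct.comul (R := k) (e a)) := rfl

theorem comulT_coassoc : (Algebra.TensorProduct.assoc k k k A' A' A').toAlgHom.comp
      ((Algebra.TensorProduct.map (comulT e) (.id k A')).comp (comulT e)) =
    (Algebra.TensorProduct.map (.id k A') (comulT e)).comp (comulT e) := by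
  refine AlgHom.ext fun a => ?_
  let E : A ⊗[k] (A ⊗[k] A) →ₐ[k] A' ⊗[k] (A' ⊗[k] A') :=
    Algebra.TensorProduct.map e.symm.toAlgHom (Algebra.TensorProduct.map e.symm.toAlgHom e.symm.toAlgHom)
  have h1 : ∀ z : A ⊗[k] A, Algebra.TensorProduct.assoc k k k A' A' A'
      (Algebra.TensorProduct.map (comulT e) (AlgHom.id k A')
        (Algebra.TensorProduct.map e.symm.toAlgHom e.symm.toAlgHom z)) =
      E (TensorProduct.assoc k A A A ((CoalgebraStruct.comul (R := k) (A := A)).rTensor A z)) := by
    intro z
    induction z using TensorProduct.induction_on with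
    | zero => simp
    | add x y hx hy => simp only [map_add, hx, hy]
    | tmul x y =>
      simp only [Algebra.TensorProduct.map_tmul, AlgEquiv.toAlgHom_apply, comulT_apply, AlgEquiv.apply_symm_apply,
        LinearMap.rTensor_tmul, AlgHom.id_apply]
      induction CoalgebraStruct.comul (R := k) x using TensorProduct.induction_on with
      | zero => simp
      | add p q hp hq => simp only [map_add, TensorProduct.add_tmul, hp, hq]
      | tmul p q => simp [E]
  have h2 : ∀ z : A ⊗[k] A, Algebra.TensorProduct.map (AlgHom.id k A') (comulT e)
      (Algebra.TensorProduct.map e.symm.toAlgHom e.symm.toAlgHom z) =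
      E ((CoalgebraStruct.comul (R := k) (A := A)).lTensor A z) := by
    intro z
    induction z using TensorProduct.induction_on with
    | zero => simp
    | add x y hx hy => simp only [map_add, hx, hy]
    | tmul x y => simp [E, comulT_apply]
  show Algebra.TensorProduct.assoc k k k A' A' A'
      (Algebra.TensorProduct.map (comulT e) (AlgHom.id k A') (comulT e a)) =
    Algebra.TensorProduct.map (AlgHom.id k A') (comulT e) (comulT e a)
  rw [comulT_apply, h1, h2, Coalgebra.coassoc_apply]

/-- Transported bialgebra structure. -/
@[reducible] def bialgT : Bialgebra k A' :=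
  Bialgebra.ofAlgHom (comulT e) ((Bialgebra.counitAlgHom k A).comp e.toAlgHom) (comulT_coassoc e)
    (AlgHom.ext fun a => by
      show Algebra.TensorProduct.map ((Bialgebra.counitAlgHom k A).comp e.toAlgHom) (AlgHom.id k A') (comulT e a) =
        (Algebra.TensorProduct.lid k A').symm a
      have h : ∀ z : A ⊗[k] A, Algebra.TensorProduct.map ((Bialgebra.counitAlgHom k A).comp e.toAlgHom) (AlgHom.id k A')
          (Algebra.TensorProduct.map e.symm.toAlgHom e.symm.toAlgHom z) =
          e.symm.toAlgHom.toLinearMap.lTensor k ((CoalgebraStruct.counit (R := k) (A := A)).rTensor A z) := by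
        intro z
        induction z using TensorProduct.induction_on with
        | zero => simp
        | add x y hx hy => simp only [map_add, hx, hy]
        | tmul x y => simp
      rw [comulT_apply, h, Coalgebra.rTensor_counit_comul]
      simp)
    (AlgHom.ext fun a => by
      show Algebra.TensorProduct.map (AlgHom.id k A') ((Bialgebra.counitAlgHom k A).comp e.toAlgHom) (comulT e a) =
        (Algebra.TensorProduct.rid k k A').symm a
      have h : ∀ z : A ⊗[k] A, Algebra.TensorProduct.map (AlgHom.id k A') ((Bialgebra.counitAlgHom k A).comp e.toAlgHom)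
          (Algebra.TensorProduct.map e.symm.toAlgHom e.symm.toAlgHom z) =
          e.symm.toAlgHom.toLinearMap.rTensor k ((CoalgebraStruct.counit (R := k) (A := A)).lTensor A z) := by
        intro z
        induction z using TensorProduct.induction_on with
        | zero => simp
        | add x y hx hy => simp only [map_add, hx, hy]
        | tmul x y => simp
      rw [comulT_apply, h, Coalgebra.lTensor_counit_comul]
      simp)

/-- Transported antipode. -/
def antipodeT : A' →ₐ[k] A' := e.symm.toAlgHom.comp ((HopfAlgebra.antipodeAlgHom k A).comp e.toAlgHom)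

/-- Transported Hopf algebra structure. -/
@[reducible] def hopfT : HopfAlgebra k A' :=
  letI := bialgT e
  HopfAlgebra.ofAlgHom (antipodeT e)
    (AlgHom.ext fun a => by
      show Algebra.TensorProduct.lift (antipodeT e) (AlgHom.id k A') (fun _ => Commute.all _) (comulT e a) =
        algebraMap k A' (CoalgebraStruct.counit (R := k) (e a))
      have h : ∀ z : A ⊗[k] A, Algebra.TensorProduct.lift (antipodeT e) (AlgHom.id k A') (fun _ => Commute.all _)
          (Algebra.TensorProduct.map e.symm.toAlgHom e.symm.toAlgHom z) =
          e.symm (LinearMap.mul' k A ((HopfAlgebra.antipode k (A := A)).rTensor A z)) := by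
        intro z
        induction z using TensorProduct.induction_on with
        | zero => simp
        | add x y hx hy => simp only [map_add, hx, hy]
        | tmul x y => simp [antipodeT]
      rw [comulT_apply, h, HopfAlgebra.mul_antipode_rTensor_comul_apply, AlgEquiv.commutes])
    (AlgHom.ext fun a => by
      show Algebra.TensorProduct.lift (AlgHom.id k A') (antipodeT e) (fun _ _ => Commute.all _ _) (comulT e a) =
        algebraMap k A' (CoalgebraStruct.counit (R := k) (e a))
      have h : ∀ z : A ⊗[k] A, Algebra.TensorProduct.lift (AlgHom.id k A') (antipodeT e) (fun _ _ => Commute.all _ _)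
          (Algebra.TensorProduct.map e.symm.toAlgHom e.symm.toAlgHom z) =
          e.symm (LinearMap.mul' k A ((HopfAlgebra.antipode k (A := A)).lTensor A z)) := by
        intro z
        induction z using TensorProduct.induction_on with
        | zero => simp
        | add x y hx hy => simp only [map_add, hx, hy]
        | tmul x y => simp [antipodeT]
      rw [comulT_apply, h, HopfAlgebra.mul_antipode_lTensor_comul_apply, AlgEquiv.commutes])

/-- Group-like spanning transfers. -/
theorem isDiagonalizable_of_transport :
    letI := hopfT e
    IsDiagonalizable k A' → IsDiagonalizable k A := by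
  letI := hopfT e
  intro h
  refine eq_top_iff.2 fun a _ => ?_
  have h1 : e.symm a ∈ Submodule.span k {x : A' | IsGroupLikeElem k x} := by rw [show _ = ⊤ from h]; trivial
  have h2 := Submodule.apply_mem_span_image_of_mem_span e.toAlgHom.toLinearMap h1
  simp only [AlgHom.toLinearMap_apply, AlgEquiv.toAlgHom_apply, AlgEquiv.apply_symm_apply] at h2
  refine Submodule.span_mono ?_ h2
  rintro _ ⟨x, hx, rfl⟩
  refine ⟨hx.counit_eq_one, ?_⟩
  have h3 := congrArg (Algebra.TensorProduct.map e.toAlgHom e.toAlgHom) hx.comul_eq_tmul_self
  rw [show CoalgebraStruct.comul (R := k) x = comulT e x from rfl, comulT_apply] at h3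
  have h4 : ∀ z : A ⊗[k] A, Algebra.TensorProduct.map e.toAlgHom e.toAlgHom
      (Algebra.TensorProduct.map e.symm.toAlgHom e.symm.toAlgHom z) = z := by
    intro z
    induction z using TensorProduct.induction_on with
    | zero => simp
    | add p q hp hq => simp only [map_add, hp, hq]
    | tmul p q => simp
  rw [h4] at h3
  show CoalgebraStruct.comul (R := k) (e x) = e x ⊗ₜ[k] e x
  rw [h3]
  rfl

/-- Semisimplicity transfers along linear isomorphisms. -/
theorem isSemisimple_conj {V : Type w} [AddCommGroup V] [Module k V] {W : Type v} [AddCommGroup W] [Module k W]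
    [FiniteDimensional k W] (ε : V ≃ₗ[k] W) {T : Module.End k W} (h : T.IsSemisimple) :
    Module.End.IsSemisimple (ε.symm.toLinearMap ∘ₗ T ∘ₗ ε.toLinearMap) := by
  haveI : FiniteDimensional k V := ε.symm.finiteDimensional
  refine Module.End.isSemisimple_of_squarefree_aeval_eq_zero h.minpoly_squarefree ?_
  have : ε.symm.toLinearMap ∘ₗ T ∘ₗ ε.toLinearMap = ε.symm.conjAlgEquiv k T := rfl
  rw [this, Polynomial.aeval_algHom_apply, minpoly.aeval, map_zero]

/-- Semisimplicity of the action of a point transfers. -/
theorem isSemisimple_act_transport (g : A' →ₐ[k] k)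
    (hss : ∀ (V : Type v) [AddCommGroup V] [Module k V] [Comod k A V], Module.Finite k V →
      Module.End.IsSemisimple (Comod.act k A V (g.comp e.symm.toAlgHom)))
    (V : Type w) [AddCommGroup V] [Module k V] :
    letI := hopfT e
    ∀ [Comod k A' V], Module.Finite k V → Module.End.IsSemisimple (Comod.act k A' V g) := by
  letI := hopfT e
  intro _ hV
  haveI := hV
  haveI : Nontrivial A := (Bialgebra.counitAlgHom k A).toRingHom.domain_nontrivial
  haveI : Small.{v} k := small_of_injective (f := algebraMap k A) (algebraMap k A).injective
  let b := Module.finBasis k V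
  haveI : Small.{v} V := small_map b.equivFun.toEquiv
  let W := Shrink.{v} V
  let ε : V ≃ₗ[k] W := (Shrink.linearEquiv k V).symm
  haveI : FiniteDimensional k W := ε.finiteDimensional
  let F : V ⊗[k] A' →ₗ[k] W ⊗[k] A := TensorProduct.map ε.toLinearMap e.toAlgHom.toLinearMap
  have key : ∀ z : V ⊗[k] A', TensorProduct.assoc k W A A
      ((F ∘ₗ Comod.coact (k := k) (A := A') (V := V) ∘ₗ ε.symm.toLinearMap).rTensor A (F z)) =
      TensorProduct.map ε.toLinearMap (TensorProduct.map e.toAlgHom.toLinearMap e.toAlgHom.toLinearMap)
        (TensorProduct.assoc k V A' A' ((Comod.coact (k := k) (A := A') (V := V)).rTensor A' z)) := by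
    intro z
    induction z using TensorProduct.induction_on with
    | zero => simp
    | add p q hp hq => simp only [map_add, hp, hq]
    | tmul x y =>
      simp only [F, TensorProduct.map_tmul, LinearMap.rTensor_tmul, LinearMap.comp_apply, LinearEquiv.coe_coe,
        LinearEquiv.symm_apply_apply]
      induction Comod.coact (k := k) (A := A') x using TensorProduct.induction_on with
      | zero => simp
      | add p q hp hq => simp only [map_add, TensorProduct.add_tmul, hp, hq]
      | tmul p q => simp
  have key2 : ∀ z : V ⊗[k] A', (CoalgebraStruct.comul (R := k) (A := A)).lTensor W (F z) =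
      TensorProduct.map ε.toLinearMap (TensorProduct.map e.toAlgHom.toLinearMap e.toAlgHom.toLinearMap)
        ((CoalgebraStruct.comul (R := k) (A := A')).lTensor V z) := by
    intro z
    induction z using TensorProduct.induction_on with
    | zero => simp
    | add p q hp hq => simp only [map_add, hp, hq]
    | tmul x y =>
      simp only [F, TensorProduct.map_tmul, LinearMap.lTensor_tmul]
      show _ ⊗ₜ[k] CoalgebraStruct.comul (R := k) (e y) = _ ⊗ₜ[k] TensorProduct.map _ _ (comulT e y)
      rw [comulT_apply]
      congr 1
      induction CoalgebraStruct.comul (R := k) (e y) using TensorProduct.induction_on with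
      | zero => simp
      | add p q hp hq => simp only [map_add, ← hp, ← hq]
      | tmul p q => simp
  have key3 : ∀ z : V ⊗[k] A', (CoalgebraStruct.counit (R := k) (A := A)).lTensor W (F z) =
      ε.toLinearMap.rTensor k ((CoalgebraStruct.counit (R := k) (A := A')).lTensor V z) := by
    intro z
    induction z using TensorProduct.induction_on with
    | zero => simp
    | add p q hp hq => simp only [map_add, hp, hq]
    | tmul x y => rfl
  letI : Comod k A W :=
    { coact := F ∘ₗ Comod.coact (k := k) (A := A') (V := V) ∘ₗ ε.symm.toLinearMap
      coassoc := by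
        refine LinearMap.ext fun w => ?_
        simp only [LinearMap.comp_apply, LinearEquiv.coe_coe]
        rw [key, key2]
        exact congrArg _ (LinearMap.congr_fun (Comod.coassoc (k := k) (A := A') (V := V)) _)
      counit_comp := by
        refine LinearMap.ext fun w => ?_
        simp only [LinearMap.comp_apply, LinearEquiv.coe_coe]
        rw [key3]
        have h := LinearMap.congr_fun (Comod.counit_comp (k := k) (A := A') (V := V)) (ε.symm w)
        simp only [LinearMap.comp_apply] at h
        rw [h]
        simp }
  have hact : Comod.act k A' V g =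
      ε.symm.toLinearMap ∘ₗ Comod.act k A W (g.comp e.symm.toAlgHom) ∘ₗ ε.toLinearMap := by
    refine LinearMap.ext fun x => ?_
    show TensorProduct.rid k V (g.toLinearMap.lTensor V (Comod.coact (k := k) (A := A') x)) =
      ε.symm (TensorProduct.rid k W ((g.comp e.symm.toAlgHom).toLinearMap.lTensor W
        (F (Comod.coact (k := k) (A := A') (ε.symm (ε x))))))
    rw [LinearEquiv.symm_apply_apply]
    induction Comod.coact (k := k) (A := A') x using TensorProduct.induction_on with
    | zero => simp
    | add p q hp hq => simp only [map_add, hp, hq]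
    | tmul p q => simp [F]
  rw [hact]
  exact isSemisimple_conj ε (hss W inferInstance)

end Transport

end Groth.Agent.UnipPts20
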