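import Groth.Agent.Lib.UnipPts20.Pts
import Groth.Agent.Lib.UnipPts20.Small
import Groth.Agent.S8061

/-!
# A smooth connected group with semisimple points is a torus
-/

set_option autoImplicit false
set_option linter.style.haveILetI false
set_option backward.isDefEq.respectTransparency.types false
set_option linter.unusedSectionVars false
set_option maxHeartbeats 800000
universe u

open CategoryTheory Limits MonoidalCategory CartesianMonoidalCategory MonObj AlgebraicGeometry HopfRep
open scoped Groth.Agent.CoalgH23 TensorProduct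
open Groth.Agent.DiagGL

noncomputable section

namespace Groth.Agent.UnipPts20

variable {K : Type u} [Field K] [IsAlgClosed K]

/-- A smooth connected group with semisimple points is diagonalizable. -/
theorem isDiagonalizable_of_semisimple (A : Type u) [CommRing A] [HopfAlgebra K A] [Algebra.FiniteType K A]
    [_root_.IsReduced A] (hconn : ∀ e : A, IsIdempotentElem e → e = 0 ∨ e = 1)
    (hss : ∀ (g : A →ₐ[K] K) (V : Type u) [AddCommGroup V] [Module K V] [Comod K A V],
      Module.Finite K V → Module.End.IsSemisimple (Comod.act K A V g)) :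
    IsDiagonalizable K A := by
  haveI : Algebra.Smooth K A := RatGrp14.smooth_of_isReduced A
  haveI : Nontrivial A := (Bialgebra.counitAlgHom K A).toRingHom.domain_nontrivial
  haveI : IsDomain A := UnipConst20.isDomain_of_connected (k := K) A hconn
  haveI := connectedSpace_sp (K := K) A
  haveI := locallyOfFiniteType_sp (K := K) A
  haveI : IsReduced (CoactBr.sp K A).left := inferInstanceAs (IsReduced (Spec (CommRingCat.of A)))
  haveI : Smooth (CoactBr.sp K A).hom := GrpSmooth19.smooth_of_isReduced _
  have hT : Red.IsTorus (CoactBr.sp K A) := by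
    refine S8061.result K (CoactBr.sp K A) fun U _ i _ hic hUs hUc hUn => ?_
    haveI := hic
    haveI := hUs
    haveI := hUc
    haveI : IsAffine U.left := isAffine_of_isAffineHom i.left
    obtain ⟨⟨B⟩, ⟨eB'⟩⟩ := (essImage_hopfSpec (G := Grp.mk U)).2 ‹_›
    let eB : Grp.mk (CoactBr.sp K B.X) ≅ Grp.mk U := eB'
    haveI : IsMonHom eB.hom.hom.hom := eB.hom.hom.isMonHom_hom
    haveI : IsIso eB.hom.hom.hom := inferInstanceAs (IsIso ((Grp.forget _).map eB.hom))
    have hP : MuCrit20.PtsUnip K B.X := ptsUnip_of_hasNoSubtorus B.X U hUn eB.hom.hom.hom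
    haveI : IsIso eB.hom.hom.hom.left := inferInstanceAs (IsIso ((Over.forget _).map eB.hom.hom.hom))
    obtain ⟨ψ, hψ⟩ := MTRigid29.exists_bialgHom_of_monHom (eB.hom.hom.hom ≫ i)
    have hψs : Function.Surjective ψ := by
      refine surjective_of_closedImmersion_pt (K := K) (ψ : A →ₐ[K] B.X) ?_
      rw [← hψ, Over.comp_left]
      infer_instance
    have hy : ∀ y : B.X →ₐ[K] K, y = Bialgebra.counitAlgHom K B.X := fun y =>
      eq_counit_of_semisimple ψ hψs hP y (fun V _ _ _ hV => hss _ V hV)
    have hx : ∀ x : VecGrp.pt K K ⟶ U, x = 1 := fun x => by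
      let E : CoactBr.sp K B.X ⟶ U := eB.hom.hom.hom
      haveI : IsIso E := ‹IsIso eB.hom.hom.hom›
      let z : CoactBr.sp K K ⟶ CoactBr.sp K B.X := x ≫ inv E
      obtain ⟨y, hy'⟩ := MTRigid29.exists_pt z
      have h1 : x = CoactBr.pt y ≫ eB.hom.hom.hom := (IsIso.comp_inv_eq _).1 hy'
      rw [h1, hy y]
      have h2 : CoactBr.pt (Bialgebra.counitAlgHom K B.X) = (1 : CoactBr.sp K K ⟶ CoactBr.sp K B.X) := by
        rw [CoactBr.one_eq_pt]
        exact congrArg _ (AlgHom.ext fun b => rfl)
      rw [h2]
      exact MonObj.one_comp _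
    haveI : IsClosedImmersion η[U].left :=
      isClosedImmersion_of_comp_eq_id U.hom η[U].left (Over.w η[U])
    obtain ⟨f, hf⟩ := TorPts21.exists_lift_of_pts η[U] (𝟙 U) fun x => ⟨toUnit _, by
      rw [Category.comp_id, hx x, Hom.one_def]⟩
    have e1 : f.left = U.hom := by
      have := Over.w f
      exact (Category.comp_id f.left).symm.trans this
    refine ⟨η[U].left, ?_, Over.w η[U]⟩
    rw [← e1, ← Over.comp_left, hf, Over.id_left]
  obtain ⟨r, C, f, hf, hfi⟩ := exists_grpIso_splitTorus hT
  haveI := hf
  haveI := hfi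
  haveI : IsIso f.left := inferInstanceAs (IsIso ((Over.forget _).map f))
  obtain ⟨φ, hφ⟩ := MTRigid29.exists_bialgHom_of_monHom f
  obtain ⟨χ, hχ⟩ := MTRigid29.exists_pt (R := K) (inv f)
  have hinj : Function.Injective φ := by
    have h : CoactBr.pt ((φ : A →ₐ[K] MonoidAlgebra K (Multiplicative (Fin r → ℤ))) |> fun t => χ.comp t) =
        CoactBr.pt (AlgHom.id K A) := by
      rw [CoactBr.pt_comp, ← hχ, ← hφ, IsIso.inv_hom_id, CoactBr.pt_id]
    have h' := CoactBr.pt_injective h
    exact Function.LeftInverse.injective (g := χ) fun a => DFunLike.congr_fun h' a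
  have hsurj : Function.Surjective φ := by
    refine surjective_of_closedImmersion_pt (K := K) (φ : A →ₐ[K] MonoidAlgebra K (Multiplicative (Fin r → ℤ))) ?_
    rw [← hφ]
    infer_instance
  let φl : A →ₗ[K] MonoidAlgebra K (Multiplicative (Fin r → ℤ)) := (φ : A →ₗc[K] MonoidAlgebra K (Multiplicative (Fin r → ℤ))).toLinearMap
  refine eq_top_iff.2 fun a _ => ?_
  have hmem : ∀ x : MonoidAlgebra K (Multiplicative (Fin r → ℤ)), ∀ a : A, φ a = x →
      a ∈ Submodule.span K {a : A | IsGroupLikeElem K a} := by
    intro x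
    induction x using MonoidAlgebra.induction_linear with
    | zero =>
      intro a ha
      rw [hinj (a₁ := a) (a₂ := 0) (by rw [ha, map_zero])]
      exact zero_mem _
    | add p q hp hq =>
      intro a ha
      obtain ⟨b, hb⟩ := hsurj p
      obtain ⟨c, hc⟩ := hsurj q
      rw [hinj (a₁ := a) (a₂ := b + c) (by rw [ha, map_add, hb, hc])]
      exact add_mem (hp b hb) (hq c hc)
    | single m c =>
      intro a ha
      obtain ⟨b, hb⟩ := hsurj (MonoidAlgebra.single m 1)
      rw [hinj (a₁ := a) (a₂ := c • b) (by rw [ha, map_smul, hb, MonoidAlgebra.smul_single, smul_eq_mul, _root_.mul_one])]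
      refine Submodule.smul_mem _ _ (Submodule.subset_span ⟨?_, ?_⟩)
      · rw [← CoalgHomClass.counit_comp_apply φ b, hb, MonoidAlgebra.counit_single, CommSemiring.counit_apply]
      · refine TensorProduct.map_injective_of_flat_flat φl φl hinj hinj ?_
        show TensorProduct.map φl φl (CoalgebraStruct.comul (R := K) b) = φ b ⊗ₜ[K] φ b
        rw [show TensorProduct.map φl φl (CoalgebraStruct.comul (R := K) b) = CoalgebraStruct.comul (R := K) (φ b) from
          CoalgHomClass.map_comp_comul_apply φ b, hb]
        simp [MonoidAlgebra.comul_single]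
  exact hmem (φ a) a rfl

end Groth.Agent.UnipPts20
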